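import Cfsg.Agent.Spor.Fi306936.L.D0

set_option autoImplicit false
set_option maxRecDepth 100000000
set_option Elab.async false

namespace Cfsg.Agent.Spor.Fi306936.L

theorem sd3 : U.sends [21] 1 3 = true := by decide +kernel

theorem sd4 : U.sends [3, 1, 3, 1] 1 4 = true := by decide +kernel

theorem sd5 : U.sends [21, 23, 21, 23] 0 3 = true := by decide +kernel

theorem rel6_0 : U.rel 19 [23, 1, 21, 23, 23, 21, 1, 23] 0 6 = true := by decide +kernel

theorem rel6_6 : U.rel 19 [23, 1, 21, 23, 23, 21, 1, 23] 6 6 = true := by decide +kernel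

theorem rel6_12 : U.rel 19 [23, 1, 21, 23, 23, 21, 1, 23] 12 6 = true := by decide +kernel

theorem rel6_18 : U.rel 19 [23, 1, 21, 23, 23, 21, 1, 23] 18 1 = true := by decide +kernel

theorem rel7_0 : U.rel 19 [23, 21, 1, 23, 21, 23, 1, 21, 23, 21, 23, 21, 1, 23, 21, 23, 1, 21, 23, 21] 0 2 = true := by decide +kernel

theorem rel7_2 : U.rel 19 [23, 21, 1, 23, 21, 23, 1, 21, 23, 21, 23, 21, 1, 23, 21, 23, 1, 21, 23, 21] 2 2 = true := by decide +kernel

theorem rel7_4 : U.rel 19 [23, 21, 1, 23, 21, 23, 1, 21, 23, 21, 23, 21, 1, 23, 21, 23, 1, 21, 23, 21] 4 2 = true := by decide +kernel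

theorem rel7_6 : U.rel 19 [23, 21, 1, 23, 21, 23, 1, 21, 23, 21, 23, 21, 1, 23, 21, 23, 1, 21, 23, 21] 6 2 = true := by decide +kernel

theorem rel7_8 : U.rel 19 [23, 21, 1, 23, 21, 23, 1, 21, 23, 21, 23, 21, 1, 23, 21, 23, 1, 21, 23, 21] 8 2 = true := by decide +kernel

theorem rel7_10 : U.rel 19 [23, 21, 1, 23, 21, 23, 1, 21, 23, 21, 23, 21, 1, 23, 21, 23, 1, 21, 23, 21] 10 2 = true := by decide +kernel

theorem rel7_12 : U.rel 19 [23, 21, 1, 23, 21, 23, 1, 21, 23, 21, 23, 21, 1, 23, 21, 23, 1, 21, 23, 21] 12 2 = true := by decide +kernel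

theorem rel7_14 : U.rel 19 [23, 21, 1, 23, 21, 23, 1, 21, 23, 21, 23, 21, 1, 23, 21, 23, 1, 21, 23, 21] 14 2 = true := by decide +kernel

theorem rel7_16 : U.rel 19 [23, 21, 1, 23, 21, 23, 1, 21, 23, 21, 23, 21, 1, 23, 21, 23, 1, 21, 23, 21] 16 2 = true := by decide +kernel

theorem rel7_18 : U.rel 19 [23, 21, 1, 23, 21, 23, 1, 21, 23, 21, 23, 21, 1, 23, 21, 23, 1, 21, 23, 21] 18 1 = true := by decide +kernel

theorem rel8 : U.rel 19 [23, 23] 0 19 = true := by decide +kernel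

theorem rel9_0 : U.rel 19 [23, 21, 23, 21, 23, 21, 23, 21, 23, 21, 23, 21] 0 4 = true := by decide +kernel

theorem rel9_4 : U.rel 19 [23, 21, 23, 21, 23, 21, 23, 21, 23, 21, 23, 21] 4 4 = true := by decide +kernel

theorem rel9_8 : U.rel 19 [23, 21, 23, 21, 23, 21, 23, 21, 23, 21, 23, 21] 8 4 = true := by decide +kernel

theorem rel9_12 : U.rel 19 [23, 21, 23, 21, 23, 21, 23, 21, 23, 21, 23, 21] 12 4 = true := by decide +kernel

theorem rel9_16 : U.rel 19 [23, 21, 23, 21, 23, 21, 23, 21, 23, 21, 23, 21] 16 3 = true := by decide +kernel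

end Cfsg.Agent.Spor.Fi306936.L
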