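import Cfsg.Agent.Spor.Chk2
import Cfsg.Agent.Spor.Fi306936.T

set_option autoImplicit false
set_option maxRecDepth 100000000
set_option Elab.async false
noncomputable section

namespace Cfsg.Agent.Spor.Fi306936.L

def W1 : List (List Nat) := [[1], [3], [5], [7], [9], [11], [13], [15], [17], [19], [21], [23]]

def W2 : List (List Nat) := [[1], [3], [5], [7], [9], [11], [13], [15], [17], [19], [21]]

def EXU : List (List Nat) := [[], [0], [0], [2], [2], [4], [4], [6], [6], [8], [8], [10], [10], [12], [12], [14], [14], [16], [16], [18], [18], [20], [20], [22], [22], [0, 2, 4, 6, 8, 10, 14], [14, 10, 8, 6, 4, 2, 0], [6, 4, 2, 0, 22, 20, 6, 8, 10, 12, 18, 6, 14, 16], [16, 14, 6, 18, 12, 10, 8, 6, 20, 22, 0, 2, 4, 6]]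
def LU : List Nat := [1, 2, 3, 4, 5, 6, 7, 8, 9, 10, 11, 12, 13, 14, 15, 16, 17, 18, 19, 20, 21, 22, 23, 24, 25, 26, 27, 28]

def U : Tab := ⟨[n0, n1, n2, n3, n4, n5, n6, n7, n8, n9, n10, n11, n12, n13], [⟨0, false, 0, 0, []⟩, ⟨0, false, 0, 0, []⟩, ⟨0, true, 0, 0, []⟩, ⟨1, false, 0, 0, []⟩, ⟨1, true, 0, 0, []⟩, ⟨2, false, 0, 0, []⟩, ⟨2, true, 0, 0, []⟩, ⟨3, false, 0, 0, []⟩, ⟨3, true, 0, 0, []⟩, ⟨4, false, 0, 0, []⟩, ⟨4, true, 0, 0, []⟩, ⟨5, false, 0, 0, []⟩, ⟨5, true, 0, 0, []⟩, ⟨6, false, 0, 0, []⟩, ⟨6, true, 0, 0, []⟩, ⟨7, false, 0, 0, []⟩, ⟨7, true, 0, 0, []⟩, ⟨8, false, 0, 0, []⟩, ⟨8, true, 0, 0, []⟩, ⟨9, false, 0, 0, []⟩, ⟨9, true, 0, 0, []⟩, ⟨10, false, 0, 0, []⟩, ⟨10, true, 0, 0, []⟩, ⟨11, false, 0, 0, []⟩, ⟨11, true, 0, 0, []⟩, ⟨12, false, 0, 0, []⟩, ⟨12, true, 0, 0, []⟩, ⟨13, false, 0, 0, []⟩, ⟨13, true, 0,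 0, []⟩]⟩

end Cfsg.Agent.Spor.Fi306936.L
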